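import Mathlib

/-! Fixed point free automorphisms of order dividing 4 of finite solvable groups. -/

namespace CfsgLib.FpfAut

variable {G : Type*} [Group G] [Finite G]

theorem odd_card (σ : MulAut G) (h4 : σ ^ 4 = 1) (hfpf : ∀ g : G, σ g = g → g = 1) :
    Odd (Nat.card G) := by
  haveI : Fact (Nat.Prime 2) := ⟨Nat.prime_two⟩
  rw [← Nat.not_even_iff_odd, even_iff_two_dvd]
  intro hdvd
  have hP : IsPGroup 2 (Subgroup.zpowers σ) := by
    rintro ⟨x, k, rfl⟩
    refine ⟨2, Subtype.ext ?_⟩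
    show (σ ^ k) ^ (2 ^ 2) = 1
    rw [← zpow_natCast, ← zpow_mul, mul_comm, zpow_mul, zpow_natCast, show (2 : ℕ) ^ 2 = 4 by norm_num, h4,
      one_zpow]
  obtain ⟨b, hb, hb1⟩ := hP.exists_fixed_point_of_prime_dvd_card_of_fixed_point G hdvd (a := 1)
    (fun g => smul_one g)
  exact hb1 (hfpf b (hb ⟨σ, Subgroup.mem_zpowers σ⟩)).symm

omit [Finite G] in
theorem commutatorMap_injective (σ : MulAut G) (hfpf : ∀ g : G, σ g = g → g = 1) :
    Function.Injective fun g : G => g⁻¹ * σ g := by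
  intro x y hxy
  have h : σ (y * x⁻¹) = y * x⁻¹ := by
    have hxy' : x⁻¹ * σ x = y⁻¹ * σ y := hxy
    calc σ (y * x⁻¹) = y * (y⁻¹ * σ y) * (σ x)⁻¹ := by rw [map_mul, map_inv]; group
      _ = _ := by rw [← hxy']; group
  exact (mul_inv_eq_one.1 (hfpf _ h)).symm

/-- Fixed point freeness passes to quotients by invariant normal subgroups. -/
theorem mem_of_commutator_mem (σ : MulAut G) (hfpf : ∀ g : G, σ g = g → g = 1) {N : Subgroup G}
    (hN : ∀ n ∈ N, σ n ∈ N) {g : G} (hg : g⁻¹ * σ g ∈ N) : g ∈ N := by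
  let f : N → N := fun n => ⟨(n : G)⁻¹ * σ n, mul_mem (inv_mem n.2) (hN n n.2)⟩
  have hf : Function.Injective f := fun a b h =>
    Subtype.ext (commutatorMap_injective σ hfpf (congrArg Subtype.val h))
  obtain ⟨n, hn⟩ := Finite.injective_iff_surjective.1 hf ⟨_, hg⟩
  exact (commutatorMap_injective σ hfpf (congrArg Subtype.val hn)) ▸ n.2

/-- An involutory fixed point free automorphism inverts every element. -/
theorem apply_eq_inv (σ : MulAut G) (h2 : ∀ g, σ (σ g) = g) (hfpf : ∀ g : G, σ g = g → g = 1)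
    (g : G) : σ g = g⁻¹ := by
  obtain ⟨h, rfl⟩ := Finite.injective_iff_surjective.1 (commutatorMap_injective σ hfpf) g
  show σ (h⁻¹ * σ h) = (h⁻¹ * σ h)⁻¹
  rw [map_mul, map_inv, h2, mul_inv_rev, inv_inv]

section Module

variable {H W : Type*} [Group H] [Finite H] [AddCommGroup W] [DistribMulAction H W]

omit [Finite H] in
/-- In an irreducible faithful module no non-trivial invariant normal subgroup fixes a vector. -/
theorem eq_zero_of_fixed (σ : MulAut H) (s : W →+ W) (hs : ∀ (h : H) (w : W), s (h • w) = σ h • s w)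
    (hfaith : ∀ h : H, (∀ w : W, h • w = w) → h = 1)
    (hirr : ∀ U : AddSubgroup W, (∀ (h : H), ∀ u ∈ U, h • u ∈ U) → (∀ u ∈ U, s u ∈ U) → U = ⊥ ∨ U = ⊤)
    {R : Subgroup H} (hRn : R.Normal) (hRσ : R.map σ.toMonoidHom = R) (hR : R ≠ ⊥) {w : W}
    (hw : ∀ r ∈ R, r • w = w) : w = 0 := by
  let U : AddSubgroup W :=
    { carrier := {w | ∀ r ∈ R, r • w = w}
      zero_mem' := fun r _ => smul_zero r
      add_mem' := fun {a b} ha hb r hr => by rw [smul_add, ha r hr, hb r hr]
      neg_mem' := fun {a} ha r hr => by rw [smul_neg, ha r hr] }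
  rcases hirr U (fun h u hu r hr => by
      have h1 := hu (h⁻¹ * r * h) (by simpa using hRn.conj_mem r hr h⁻¹)
      calc r • h • u = h • ((h⁻¹ * r * h) • u) := by simp [smul_smul, mul_assoc]
        _ = h • u := by rw [h1])
    (fun u hu r hr => by
      obtain ⟨r', hr', rfl⟩ := (hRσ.symm ▸ hr : r ∈ R.map σ.toMonoidHom)
      show σ r' • s u = s u
      rw [← hs, hu r' hr']) with hU | hU
  · exact AddSubgroup.mem_bot.1 (hU ▸ (show w ∈ U from hw))
  · exact absurd ((Subgroup.eq_bot_iff_forall R).2 fun r hr =>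
      hfaith r fun w => (hU ▸ AddSubgroup.mem_top w : w ∈ U) r hr) hR

/-- The key step: a non-trivial invariant normal abelian subgroup of order prime to the module forces
the group to be abelian. -/
theorem comm_of_abelian_normal [Finite W] (σ : MulAut H) (h4 : ∀ h, σ (σ (σ (σ h))) = h)
    (hfpf : ∀ h : H, σ h = h → h = 1) (hodd : Odd (Nat.card H))
    (s : W →+ W) (hs : ∀ (h : H) (w : W), s (h • w) = σ h • s w) (hs4 : ∀ w, s (s (s (s w))) = w)
    (hsf : ∀ w, s w = w → w = 0) (hfaith : ∀ h : H, (∀ w : W, h • w = w) → h = 1)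
    (hirr : ∀ U : AddSubgroup W, (∀ (h : H), ∀ u ∈ U, h • u ∈ U) → (∀ u ∈ U, s u ∈ U) → U = ⊥ ∨ U = ⊤)
    {R : Subgroup H} (hRn : R.Normal) (hRc : ∀ a ∈ R, ∀ b ∈ R, a * b = b * a)
    (hRσ : R.map σ.toMonoidHom = R) (hR : R ≠ ⊥) (hcop : (Nat.card R).Coprime (Nat.card W)) :
    ∀ a b : H, a * b = b * a := by
  classical
  have hσR : ∀ r ∈ R, σ r ∈ R := fun r hr => hRσ ▸ ⟨r, hr, rfl⟩
  have hsum : ∀ w, w + s w + s (s w) + s (s (s w)) = 0 := fun w => hsf _ (by
    simp only [map_add, hs4]; abel)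
  have hsq : ∀ x : H, ∀ y : H, x * x = y * y → Commute x y → x = y := by
    intro x y h hc
    obtain ⟨m, hm⟩ := hodd
    have hcard : ∀ z : H, z = (z * z) ^ (m + 1) := fun z => by
      rw [← pow_two, ← pow_mul, show 2 * (m + 1) = Nat.card H + 1 by omega, pow_succ, pow_card_eq_one', one_mul]
    rw [hcard x, h, ← hcard y]
  -- `σ²` centralizes `R`
  have hτR : ∀ r ∈ R, σ (σ r) = r := by
    let R1 : Subgroup H :=
      { carrier := {r | r ∈ R ∧ σ (σ r) = r⁻¹}
        one_mem' := ⟨one_mem R, by simp⟩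
        mul_mem' := fun {a b} ha hb => ⟨mul_mem ha.1 hb.1, by
          rw [map_mul, map_mul, ha.2, hb.2, mul_inv_rev]
          exact hRc _ (inv_mem ha.1) _ (inv_mem hb.1)⟩
        inv_mem' := fun {a} ha => ⟨inv_mem ha.1, by simp [ha.2]⟩ }
    have hR1σ : ∀ r ∈ R1, σ r ∈ R1 := fun r hr => ⟨hσR r hr.1, by
      show σ (σ (σ r)) = (σ r)⁻¹
      rw [hr.2, map_inv]⟩
    have key : ∀ r ∈ R1, r = 1 := by
      intro r₀ hr₀
      refine hfaith r₀ fun v => ?_
      letI : Fintype R1 := Fintype.ofFinite R1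
      set S : W → W := fun w => ∑ r : R1, (r : H) • w with hS
      have hbij : ∀ (φ : R1 → R1), Function.Injective φ → ∀ w : W, ∑ r : R1, (φ r : H) • w = S w :=
        fun φ hφ w => (Finite.injective_iff_bijective.1 hφ).sum_comp (fun r : R1 => (r : H) • w)
      have e1 : ∀ w, ∑ r : R1, ((r : H) * σ (r : H)⁻¹) • w = S w := by
        refine hbij (fun r => ⟨(r : H) * σ (r : H)⁻¹, mul_mem r.2 (hR1σ _ (inv_mem r.2))⟩) fun x y h => ?_
        have h' : (x : H) * σ (x : H)⁻¹ = (y : H) * σ (y : H)⁻¹ := congrArg Subtype.val h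
        have hfix : σ ((y : H)⁻¹ * x) = (y : H)⁻¹ * x := by
          rw [map_mul, map_inv]
          calc (σ (y : H))⁻¹ * σ (x : H) = (y : H)⁻¹ * ((y : H) * σ (y : H)⁻¹) * σ (x : H) := by
                rw [map_inv]; group
            _ = _ := by rw [← h', map_inv]; group
        exact Subtype.ext (inv_mul_eq_one.1 (hfpf _ hfix)).symm
      have e2 : ∀ w, ∑ r : R1, ((r : H) * σ (σ (r : H)⁻¹)) • w = S w := by
        refine hbij (fun r => ⟨(r : H) * σ (σ (r : H)⁻¹), mul_mem r.2 (hR1σ _ (hR1σ _ (inv_mem r.2)))⟩)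
          fun x y h => ?_
        have h' : (x : H) * σ (σ (x : H)⁻¹) = (y : H) * σ (σ (y : H)⁻¹) := congrArg Subtype.val h
        rw [map_inv, map_inv, x.2.2, inv_inv, map_inv, map_inv, y.2.2, inv_inv] at h'
        exact Subtype.ext (hsq _ _ h' (hRc _ x.2.1 _ y.2.1))
      have e3 : ∀ w, ∑ r : R1, ((r : H) * σ (σ (σ (r : H)⁻¹))) • w = S w := by
        refine hbij (fun r => ⟨(r : H) * σ (σ (σ (r : H)⁻¹)),
          mul_mem r.2 (hR1σ _ (hR1σ _ (hR1σ _ (inv_mem r.2))))⟩) fun x y h => ?_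
        have h' : (x : H) * σ (σ (σ (x : H)⁻¹)) = (y : H) * σ (σ (σ (y : H)⁻¹)) := congrArg Subtype.val h
        have h'' := congrArg σ h'
        simp only [map_mul, h4] at h''
        have hfix : σ ((y : H)⁻¹ * x) = (y : H)⁻¹ * x := by
          rw [map_mul, map_inv]
          calc (σ (y : H))⁻¹ * σ (x : H) = (σ (y : H))⁻¹ * (σ (x : H) * (x : H)⁻¹) * x := by group
            _ = _ := by rw [h'']; group
        exact Subtype.ext (inv_mul_eq_one.1 (hfpf _ hfix)).symm
      have hadd : ∀ a b, S (a + b) = S a + S b := fun a b => by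
        simp only [hS, smul_add, Finset.sum_add_distrib]
      have h0 : (0 : W) = Nat.card R1 • v + (S (s v) + S (s (s v)) + S (s (s (s v)))) := by
        rw [← e1 (s v), ← e2 (s (s v)), ← e3 (s (s (s v))), Nat.card_eq_fintype_card,
          ← Finset.card_univ, ← Finset.sum_const, ← Finset.sum_add_distrib, ← Finset.sum_add_distrib,
          ← Finset.sum_add_distrib]
        refine (Finset.sum_eq_zero fun r _ => ?_).symm
        have h1 := hsum ((r : H)⁻¹ • v)
        simp only [hs] at h1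
        have h2 := congrArg (fun w => (r : H) • w) h1
        simp only [smul_add, smul_smul, smul_zero, mul_inv_cancel, one_smul] at h2
        rw [← h2]
        abel
      have hneg : S (s v) + S (s (s v)) + S (s (s (s v))) = - S v := by
        rw [← hadd, ← hadd, eq_neg_iff_add_eq_zero, ← hadd,
          show s v + s (s v) + s (s (s v)) + v = 0 by rw [← hsum v]; abel]
        simp [hS]
      rw [hneg, eq_comm, ← sub_eq_add_neg, sub_eq_zero] at h0
      have hfix : (r₀ : H) • S v = S v := by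
        simp only [hS, Finset.smul_sum, smul_smul]
        exact Equiv.sum_comp (Equiv.mulLeft (⟨r₀, hr₀⟩ : R1)) (fun r : R1 => (r : H) • v)
      rw [← h0] at hfix
      have hzero : Nat.card R1 • (r₀ • v - v) = 0 := by
        rw [nsmul_sub, sub_eq_zero]
        exact (map_nsmul (DistribSMul.toAddMonoidHom W r₀) _ v).symm.trans hfix
      have hc1 : (Nat.card R1).Coprime (Nat.card W) :=
        hcop.coprime_dvd_left (Subgroup.card_dvd_of_le fun x hx => hx.1)
      have hd := Nat.eq_one_of_dvd_coprimes hc1 (addOrderOf_dvd_of_nsmul_eq_zero hzero)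
        (addOrderOf_dvd_natCard _)
      exact sub_eq_zero.1 (AddMonoid.addOrderOf_eq_one_iff.1 hd)
    intro r hr
    have hx : r⁻¹ * σ (σ r) ∈ R1 := ⟨mul_mem (inv_mem hr) (hσR _ (hσR _ hr)), by
      rw [map_mul, map_mul, h4, map_inv, map_inv, mul_inv_rev, inv_inv]⟩
    exact (inv_mul_eq_one.1 (key _ hx)).symm
  -- hence `σ` inverts `R`
  have hinvR : ∀ r ∈ R, σ r = r⁻¹ := by
    intro r hr
    have h : σ (r * σ r) = r * σ r := by rw [map_mul, hτR r hr]; exact hRc _ (hσR r hr) _ hr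
    exact (inv_eq_of_mul_eq_one_right (hfpf _ h)).symm
  -- `σ²` is `-1` on the module
  have hplus : ∀ v, s (s v) = v → v = 0 := by
    intro v hv
    refine eq_zero_of_fixed σ s hs hfaith hirr hRn hRσ hR fun r hr => ?_
    have h1 : ∀ u, s (s u) = u → s u = - u := fun u hu => by
      rw [eq_neg_iff_add_eq_zero]
      exact hsf _ (by rw [map_add, hu, add_comm])
    have h2 : s (s (r • v)) = r • v := by rw [hs, hs, hτR r hr, hv]
    have h3 := h1 _ h2
    rw [hs, h1 v hv, hinvR r hr, smul_neg, neg_inj, inv_smul_eq_iff, smul_smul] at h3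
    obtain ⟨m, hm⟩ := hodd
    have h4' : ∀ k : ℕ, (r * r) ^ k • v = v := by
      intro k
      induction k with
      | zero => simp
      | succ k ih => rw [pow_succ, mul_smul, ← h3, ih]
    have h5 := h4' (m + 1)
    rwa [← pow_two, ← pow_mul, show 2 * (m + 1) = Nat.card H + 1 by omega, pow_succ, pow_card_eq_one', one_mul] at h5
  have hminus : ∀ w, s (s w) = - w := fun w => by
    have h := hplus (w + s (s w)) (by simp only [map_add, hs4]; abel)
    exact eq_neg_of_add_eq_zero_right h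
  have hτ : ∀ h, σ (σ h) = h := fun h => by
    refine inv_mul_eq_one.1 (hfaith _ fun w => ?_) |>.symm
    have h1 := hminus (h • w)
    rw [hs, hs, hminus, smul_neg, neg_inj] at h1
    rw [mul_smul, h1, inv_smul_smul]
  intro a b
  have h1 := apply_eq_inv σ hτ hfpf (a * b)
  rw [map_mul, apply_eq_inv σ hτ hfpf a, apply_eq_inv σ hτ hfpf b, ← mul_inv_rev, inv_inj] at h1
  exact h1.symm

end Module

end CfsgLib.FpfAut
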